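import Groth.Agent.BiratOpenLib.Basic

/-!
# Comparing an integral scheme with an affine one having the same function field
-/

set_option autoImplicit false

universe u

open CategoryTheory AlgebraicGeometry

namespace BiratOpenLib

variable {S : CommRingCat.{u}} {X : Scheme.{u}} (sX : X ⟶ Spec S) [IsIntegral X] [LocallyOfFiniteType sX]
  (A : CommRingCat.{u}) [IsDomain A] (s : S ⟶ A) [LocallyOfFiniteType (Spec.map s)]
  [Algebra A X.functionField] [IsFractionRing A X.functionField]

theorem exists_open_iso_affine (t : S ⟶ X.presheaf.stalk (genericPoint X))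
    (ht : X.fromSpecStalk (genericPoint X) ≫ sX = Spec.map t)
    (hst : ∀ c : S, algebraMap A X.functionField (s c) = t c) :
    ∃ (U : X.Opens) (V : (Spec A).Opens), (U : Set X).Nonempty ∧
      ∃ φ : (U : Scheme.{u}) ≅ (V : Scheme.{u}), φ.hom ≫ V.ι ≫ Spec.map s = U.ι ≫ sX := by
  let e : X.functionField ≃ₐ[A] (Spec A).functionField :=
    IsLocalization.algEquiv (nonZeroDivisors A) X.functionField (Spec A).functionField
  let α : X.presheaf.stalk (genericPoint X) ≅ (Spec A).presheaf.stalk (genericPoint (Spec A)) :=
    RingEquiv.toCommRingCatIso (R := ↥(X.presheaf.stalk (genericPoint X)))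
      (S := ↥((Spec A).presheaf.stalk (genericPoint (Spec A)))) e.toRingEquiv
  have hA : (Spec A).fromSpecStalk (genericPoint (Spec A)) =
      Spec.map (CommRingCat.ofHom (algebraMap A (Spec A).functionField)) := by
    rw [Spec.fromSpecStalk_eq]
    rfl
  refine exists_open_iso sX (Spec.map s) α ?_
  rw [ht, hA, ← Spec.map_comp, ← Spec.map_comp]
  refine congrArg Spec.map ?_
  ext c
  show e (t c) = algebraMap A (Spec A).functionField (s c)
  rw [← e.commutes, hst c]

end BiratOpenLib
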