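import Mathlib

/-!
# Integral schemes of finite type with the same function field have isomorphic nonempty opens
-/

set_option autoImplicit false

universe u

open CategoryTheory AlgebraicGeometry

namespace BiratOpenLib

/-- Two morphisms out of an open piece of an integral scheme which agree at the generic point and land in an affine
open agree. -/
theorem ext_of_generic {X T : Scheme.{u}} [IsIntegral X] {W : X.Opens} (hη : genericPoint X ∈ W)
    (a b : (W : Scheme.{u}) ⟶ T) (T₀ : T.Opens) (hT₀ : IsAffineOpen T₀)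
    (ha : ∀ w, a w ∈ T₀) (hb : ∀ w, b w ∈ T₀)
    (h : W.fromSpecStalkOfMem (genericPoint X) hη ≫ a = W.fromSpecStalkOfMem (genericPoint X) hη ≫ b) :
    a = b := by
  haveI : IsAffine T₀.toScheme := hT₀
  have hra : Set.range a ⊆ Set.range T₀.ι := by
    rintro _ ⟨w, rfl⟩; rw [Scheme.Opens.range_ι]; exact ha w
  have hrb : Set.range b ⊆ Set.range T₀.ι := by
    rintro _ ⟨w, rfl⟩; rw [Scheme.Opens.range_ι]; exact hb w
  rw [← IsOpenImmersion.lift_fac T₀.ι a hra, ← IsOpenImmersion.lift_fac T₀.ι b hrb]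
  congr 1
  haveI : IsDominant (W.fromSpecStalkOfMem (genericPoint X) hη) := by
    refine ⟨?_⟩
    rw [DenseRange, W.ι.isOpenEmbedding.isEmbedding.isInducing.dense_iff]
    intro w
    refine closure_mono ?_ (show (W.ι w) ∈ closure {genericPoint X} from ?_)
    · rintro _ rfl
      refine ⟨W.fromSpecStalkOfMem (genericPoint X) hη (IsLocalRing.closedPoint _), Set.mem_range_self _, ?_⟩
      rw [← Scheme.Hom.comp_apply, Scheme.Opens.fromSpecStalkOfMem_ι, Scheme.fromSpecStalk_closedPoint]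
    · rw [genericPoint_closure]; trivial
  refine ext_of_isDominant (W.fromSpecStalkOfMem (genericPoint X) hη) ?_
  rw [← cancel_mono T₀.ι, Category.assoc, Category.assoc, IsOpenImmersion.lift_fac, IsOpenImmersion.lift_fac]
  exact h

variable {S X Y : Scheme.{u}} (sX : X ⟶ S) (sY : Y ⟶ S) [IsIntegral X] [IsIntegral Y]

/-- Inverse rational maps restrict to an isomorphism of nonempty opens. -/
theorem exists_iso_of_inverse (X₀ U : X.Opens) (Y₀ V : Y.Opens) (hX₀ : IsAffineOpen X₀) (hY₀ : IsAffineOpen Y₀)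
    (hU : U ≤ X₀) (hV : V ≤ Y₀) (hηU : genericPoint X ∈ U) (hηV : genericPoint Y ∈ V)
    (g : (U : Scheme.{u}) ⟶ Y) (h : (V : Scheme.{u}) ⟶ X) (hgs : g ≫ sY = U.ι ≫ sX)
    (hg₀ : ∀ u, g u ∈ Y₀) (hh₀ : ∀ v, h v ∈ X₀)
    (α : X.presheaf.stalk (genericPoint X) ≅ Y.presheaf.stalk (genericPoint Y))
    (hg : Spec.map α.inv ≫ Y.fromSpecStalk (genericPoint Y) = U.fromSpecStalkOfMem (genericPoint X) hηU ≫ g)
    (hh : Spec.map α.hom ≫ X.fromSpecStalk (genericPoint X) = V.fromSpecStalkOfMem (genericPoint Y) hηV ≫ h) :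
    ∃ (U' : X.Opens) (V' : Y.Opens), (U' : Set X).Nonempty ∧
      ∃ φ : (U' : Scheme.{u}) ≅ (V' : Scheme.{u}), φ.hom ≫ V'.ι ≫ sY = U'.ι ≫ sX := by
  let U₁ : X.Opens := U.ι ''ᵁ (g ⁻¹ᵁ V)
  let V₁ : Y.Opens := V.ι ''ᵁ (h ⁻¹ᵁ U)
  have hU₁ : U₁ ≤ U := U.ι_image_le _
  have hV₁ : V₁ ≤ V := V.ι_image_le _
  have gη : g (⟨genericPoint X, hηU⟩ : U) = genericPoint Y := by
    have := congr($hg (IsLocalRing.closedPoint _))
    simp only [Scheme.Hom.comp_apply, Spec_closedPoint, Scheme.fromSpecStalk_closedPoint] at this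
    rw [this]
    congr 1
    apply U.ι.isOpenEmbedding.injective
    rw [← Scheme.Hom.comp_apply, Scheme.Opens.fromSpecStalkOfMem_ι, Scheme.fromSpecStalk_closedPoint]
    rfl
  have hgη : genericPoint X ∈ U₁ := ⟨⟨genericPoint X, hηU⟩, (show g _ ∈ V by rw [gη]; exact hηV), rfl⟩
  have hη' : h (⟨genericPoint Y, hηV⟩ : V) = genericPoint X := by
    have := congr($hh (IsLocalRing.closedPoint _))
    simp only [Scheme.Hom.comp_apply, Spec_closedPoint, Scheme.fromSpecStalk_closedPoint] at this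
    rw [this]
    congr 1
    apply V.ι.isOpenEmbedding.injective
    rw [← Scheme.Hom.comp_apply, Scheme.Opens.fromSpecStalkOfMem_ι, Scheme.fromSpecStalk_closedPoint]
    rfl
  have hhη : genericPoint Y ∈ V₁ := ⟨⟨genericPoint Y, hηV⟩, (show h _ ∈ U by rw [hη']; exact hηU), rfl⟩
  have hgV : Set.range (X.homOfLE hU₁ ≫ g) ⊆ Set.range V.ι := by
    rintro _ ⟨u, rfl⟩
    rw [Scheme.Opens.range_ι]
    obtain ⟨w, hw, hwu⟩ := u.2
    have : X.homOfLE hU₁ u = w := U.ι.isOpenEmbedding.injective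
      (by rw [← Scheme.Hom.comp_apply, Scheme.homOfLE_ι]; exact hwu.symm)
    rw [Scheme.Hom.comp_apply, this]
    exact hw
  have hhU : Set.range (Y.homOfLE hV₁ ≫ h) ⊆ Set.range U.ι := by
    rintro _ ⟨v, rfl⟩
    rw [Scheme.Opens.range_ι]
    obtain ⟨w, hw, hwv⟩ := v.2
    have : Y.homOfLE hV₁ v = w := V.ι.isOpenEmbedding.injective
      (by rw [← Scheme.Hom.comp_apply, Scheme.homOfLE_ι]; exact hwv.symm)
    rw [Scheme.Hom.comp_apply, this]
    exact hw
  let g₁ := IsOpenImmersion.lift V.ι (X.homOfLE hU₁ ≫ g) hgV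
  let h₁ := IsOpenImmersion.lift U.ι (Y.homOfLE hV₁ ≫ h) hhU
  have hg₁ : g₁ ≫ V.ι = X.homOfLE hU₁ ≫ g := IsOpenImmersion.lift_fac _ _ _
  have hh₁ : h₁ ≫ U.ι = Y.homOfLE hV₁ ≫ h := IsOpenImmersion.lift_fac _ _ _
  have eU : U₁.fromSpecStalkOfMem (genericPoint X) hgη ≫ X.homOfLE hU₁ =
      U.fromSpecStalkOfMem (genericPoint X) hηU := by
    rw [← cancel_mono U.ι, Category.assoc, Scheme.homOfLE_ι, Scheme.Opens.fromSpecStalkOfMem_ι,
      Scheme.Opens.fromSpecStalkOfMem_ι]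
  have eV : V₁.fromSpecStalkOfMem (genericPoint Y) hhη ≫ Y.homOfLE hV₁ =
      V.fromSpecStalkOfMem (genericPoint Y) hηV := by
    rw [← cancel_mono V.ι, Category.assoc, Scheme.homOfLE_ι, Scheme.Opens.fromSpecStalkOfMem_ι,
      Scheme.Opens.fromSpecStalkOfMem_ι]
  have gl : U₁.fromSpecStalkOfMem (genericPoint X) hgη ≫ g₁ =
      Spec.map α.inv ≫ V.fromSpecStalkOfMem (genericPoint Y) hηV := by
    rw [← cancel_mono V.ι, Category.assoc, hg₁, Category.assoc, Scheme.Opens.fromSpecStalkOfMem_ι, hg,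
      ← Category.assoc, eU]
  have hl : V₁.fromSpecStalkOfMem (genericPoint Y) hhη ≫ h₁ =
      Spec.map α.hom ≫ U.fromSpecStalkOfMem (genericPoint X) hηU := by
    rw [← cancel_mono U.ι, Category.assoc, hh₁, Category.assoc, Scheme.Opens.fromSpecStalkOfMem_ι, hh,
      ← Category.assoc, eV]
  have hgh : g₁ ≫ h = U₁.ι := by
    refine ext_of_generic hgη _ _ X₀ hX₀ (fun w => hh₀ _) (fun w => hU (hU₁ w.2)) ?_
    rw [← Category.assoc, gl, Category.assoc, ← hh, ← Category.assoc, ← Spec.map_comp, Iso.hom_inv_id,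
      Spec.map_id, Category.id_comp, Scheme.Opens.fromSpecStalkOfMem_ι]
  have hhg : h₁ ≫ g = V₁.ι := by
    refine ext_of_generic hhη _ _ Y₀ hY₀ (fun w => hg₀ _) (fun w => hV (hV₁ w.2)) ?_
    rw [← Category.assoc, hl, Category.assoc, ← hg, ← Category.assoc, ← Spec.map_comp, Iso.inv_hom_id,
      Spec.map_id, Category.id_comp, Scheme.Opens.fromSpecStalkOfMem_ι]
  have hA : Set.range (g₁ ≫ V.ι) ⊆ Set.range V₁.ι := by
    rintro _ ⟨u, rfl⟩
    rw [Scheme.Opens.range_ι]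
    refine ⟨g₁ u, (?_ : h (g₁ u) ∈ U), rfl⟩
    rw [← Scheme.Hom.comp_apply, hgh]
    exact hU₁ u.2
  have hB : Set.range (h₁ ≫ U.ι) ⊆ Set.range U₁.ι := by
    rintro _ ⟨v, rfl⟩
    rw [Scheme.Opens.range_ι]
    refine ⟨h₁ v, (?_ : g (h₁ v) ∈ V), rfl⟩
    rw [← Scheme.Hom.comp_apply, hhg]
    exact hV₁ v.2
  let A := IsOpenImmersion.lift V₁.ι (g₁ ≫ V.ι) hA
  let B := IsOpenImmersion.lift U₁.ι (h₁ ≫ U.ι) hB
  have hAι : A ≫ V₁.ι = g₁ ≫ V.ι := IsOpenImmersion.lift_fac _ _ _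
  have hBι : B ≫ U₁.ι = h₁ ≫ U.ι := IsOpenImmersion.lift_fac _ _ _
  have hAV : A ≫ Y.homOfLE hV₁ = g₁ := by
    rw [← cancel_mono V.ι, Category.assoc, Scheme.homOfLE_ι, hAι]
  have hBU : B ≫ X.homOfLE hU₁ = h₁ := by
    rw [← cancel_mono U.ι, Category.assoc, Scheme.homOfLE_ι, hBι]
  refine ⟨U₁, V₁, ⟨_, hgη⟩, ⟨A, B, ?_, ?_⟩, ?_⟩
  · rw [← cancel_mono U₁.ι, Category.assoc, hBι, hh₁, ← Category.assoc, hAV, hgh, Category.id_comp]
  · rw [← cancel_mono V₁.ι, Category.assoc, hAι, hg₁, ← Category.assoc, hBU, hhg, Category.id_comp]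
  · show A ≫ V₁.ι ≫ sY = _
    rw [← Category.assoc, hAι, hg₁, Category.assoc, hgs, Scheme.homOfLE_ι_assoc]

/-- Schemes locally of finite type with the same function field over the base share a nonempty open. -/
theorem exists_open_iso [LocallyOfFiniteType sX] [LocallyOfFiniteType sY]
    (α : X.presheaf.stalk (genericPoint X) ≅ Y.presheaf.stalk (genericPoint Y))
    (e : Spec.map α.hom ≫ X.fromSpecStalk (genericPoint X) ≫ sX = Y.fromSpecStalk (genericPoint Y) ≫ sY) :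
    ∃ (U' : X.Opens) (V' : Y.Opens), (U' : Set X).Nonempty ∧
      ∃ φ : (U' : Scheme.{u}) ≅ (V' : Scheme.{u}), φ.hom ≫ V'.ι ≫ sY = U'.ι ≫ sX := by
  obtain ⟨_, ⟨X₀, hX₀, rfl⟩, hxX, -⟩ :=
    X.isBasis_affineOpens.exists_subset_of_mem_open (Set.mem_univ (genericPoint X)) isOpen_univ
  obtain ⟨_, ⟨Y₀, hY₀, rfl⟩, hyY, -⟩ :=
    Y.isBasis_affineOpens.exists_subset_of_mem_open (Set.mem_univ (genericPoint Y)) isOpen_univ
  obtain ⟨U, hU, g, hg, hgs⟩ := spread_out_of_isGermInjective' sX sY (x := genericPoint X)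
    (Spec.map α.inv ≫ Y.fromSpecStalk (genericPoint Y))
    (by rw [Category.assoc, ← e, ← Category.assoc, ← Spec.map_comp, Iso.hom_inv_id, Spec.map_id, Category.id_comp])
  obtain ⟨V, hV, h, hh, hhs⟩ := spread_out_of_isGermInjective' sY sX (x := genericPoint Y)
    (Spec.map α.hom ≫ X.fromSpecStalk (genericPoint X)) (by rw [Category.assoc, e])
  let U' : X.Opens := U.ι ''ᵁ (g ⁻¹ᵁ Y₀) ⊓ X₀
  let V' : Y.Opens := V.ι ''ᵁ (h ⁻¹ᵁ X₀) ⊓ Y₀
  have hUle : U' ≤ U := inf_le_left.trans (U.ι_image_le _)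
  have hVle : V' ≤ V := inf_le_left.trans (V.ι_image_le _)
  have gη : g (⟨genericPoint X, hU⟩ : U) = genericPoint Y := by
    have := congr($hg (IsLocalRing.closedPoint _))
    simp only [Scheme.Hom.comp_apply, Spec_closedPoint, Scheme.fromSpecStalk_closedPoint] at this
    rw [this]
    congr 1
    apply U.ι.isOpenEmbedding.injective
    rw [← Scheme.Hom.comp_apply, Scheme.Opens.fromSpecStalkOfMem_ι, Scheme.fromSpecStalk_closedPoint]
    rfl
  have hη' : h (⟨genericPoint Y, hV⟩ : V) = genericPoint X := by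
    have := congr($hh (IsLocalRing.closedPoint _))
    simp only [Scheme.Hom.comp_apply, Spec_closedPoint, Scheme.fromSpecStalk_closedPoint] at this
    rw [this]
    congr 1
    apply V.ι.isOpenEmbedding.injective
    rw [← Scheme.Hom.comp_apply, Scheme.Opens.fromSpecStalkOfMem_ι, Scheme.fromSpecStalk_closedPoint]
    rfl
  have hηU : genericPoint X ∈ U' :=
    ⟨⟨⟨genericPoint X, hU⟩, (show g _ ∈ Y₀ by rw [gη]; exact hyY), rfl⟩, hxX⟩
  have hηV : genericPoint Y ∈ V' :=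
    ⟨⟨⟨genericPoint Y, hV⟩, (show h _ ∈ X₀ by rw [hη']; exact hxX), rfl⟩, hyY⟩
  refine exists_iso_of_inverse sX sY X₀ U' Y₀ V' hX₀ hY₀ inf_le_right inf_le_right hηU hηV
    (X.homOfLE hUle ≫ g) (Y.homOfLE hVle ≫ h)
    (by rw [Category.assoc, hgs, Scheme.homOfLE_ι_assoc]) (fun u => ?_) (fun v => ?_) α ?_ ?_
  · obtain ⟨w, hw, hwu⟩ := u.2.1
    have : X.homOfLE hUle u = w := U.ι.isOpenEmbedding.injective
      (by rw [← Scheme.Hom.comp_apply, Scheme.homOfLE_ι]; exact hwu.symm)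
    rw [Scheme.Hom.comp_apply, this]
    exact hw
  · obtain ⟨w, hw, hwv⟩ := v.2.1
    have : Y.homOfLE hVle v = w := V.ι.isOpenEmbedding.injective
      (by rw [← Scheme.Hom.comp_apply, Scheme.homOfLE_ι]; exact hwv.symm)
    rw [Scheme.Hom.comp_apply, this]
    exact hw
  · rw [hg, ← Category.assoc]
    congr 1
    rw [← cancel_mono U.ι, Category.assoc, Scheme.homOfLE_ι, Scheme.Opens.fromSpecStalkOfMem_ι,
      Scheme.Opens.fromSpecStalkOfMem_ι]
  · rw [hh, ← Category.assoc]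
    congr 1
    rw [← cancel_mono V.ι, Category.assoc, Scheme.homOfLE_ι, Scheme.Opens.fromSpecStalkOfMem_ι,
      Scheme.Opens.fromSpecStalkOfMem_ι]

end BiratOpenLib
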