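import Mathlib

/-!
# A separably generated field is the function field of a monic hypersurface
-/

set_option autoImplicit false

universe u

open Polynomial

namespace BiratOpenLib

theorem exists_hypersurface (k L : Type u) [Field k] [Field L] [Algebra k L] [Algebra.EssFiniteType k L] (d : ℕ)
    (s : Fin d → L) (hs : IsTranscendenceBasis k s)
    (hsep : Algebra.IsSeparable ↥(IntermediateField.adjoin k (Set.range s)) L) :
    ∃ g : Polynomial (MvPolynomial (Fin d) k), g.Monic ∧
      Irreducible (g.map (algebraMap (MvPolynomial (Fin d) k) (FractionRing (MvPolynomial (Fin d) k)))) ∧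
      (g.map (algebraMap (MvPolynomial (Fin d) k) (FractionRing (MvPolynomial (Fin d) k)))).Separable ∧
      ∃ φ : AdjoinRoot g →ₐ[k] L, Function.Injective φ ∧ ∀ z : L, ∃ a b, z = φ a / φ b := by
  classical
  let F := IntermediateField.adjoin k (Set.range s)
  haveI := hsep
  haveI : Algebra.EssFiniteType F L := Algebra.EssFiniteType.of_comp k F L
  haveI : Algebra.IsAlgebraic F L := Algebra.IsSeparable.isAlgebraic F L
  let R := MvPolynomial (Fin d) k
  let K := FractionRing R
  let e₁ : K ≃ₐ[k] F := hs.1.aevalEquivField
  letI algR : Algebra R L := (MvPolynomial.aeval s).toRingHom.toAlgebra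
  letI algK : Algebra K L := ((algebraMap F L).comp e₁.toAlgHom.toRingHom).toAlgebra
  haveI : IsScalarTower k R L := IsScalarTower.of_algebraMap_eq fun c => ((MvPolynomial.aeval s).commutes c).symm
  haveI : IsScalarTower R K L := IsScalarTower.of_algebraMap_eq fun a =>
    (hs.1.aevalEquivField_algebraMap_apply_coe a).symm
  haveI : Algebra.IsSeparable K L := Algebra.IsSeparable.of_equiv_equiv e₁.symm.toRingEquiv (RingEquiv.refl L)
    (RingHom.ext fun a => by
      show ((e₁ (e₁.symm a) : F) : L) = (a : L)
      rw [AlgEquiv.apply_symm_apply])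
  haveI : Module.Finite F L := Algebra.finite_of_essFiniteType_of_isAlgebraic
  haveI : Module.Finite K L := Module.Finite.of_equiv_equiv e₁.symm.toRingEquiv (RingEquiv.refl L)
    (RingHom.ext fun a => by
      show ((e₁ (e₁.symm a) : F) : L) = (a : L)
      rw [AlgEquiv.apply_symm_apply])
  have hinjR : Function.Injective (algebraMap R L) := algebraicIndependent_iff_injective_aeval.1 hs.1
  obtain ⟨α, hα⟩ := Field.exists_primitive_element K L
  obtain ⟨m, hm⟩ := IsIntegral.exists_multiple_integral_of_isLocalization (R := R) (Rₘ := K) (nonZeroDivisors R)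
    α (Algebra.IsIntegral.isIntegral α)
  let β : L := m • α
  have hm0 : algebraMap R L (m : R) ≠ 0 := fun h0 =>
    nonZeroDivisors.coe_ne_zero m (hinjR (h0.trans (map_zero _).symm))
  have hβdef : β = algebraMap R L (m : R) * α := by
    show (m : R) • α = _
    rw [Algebra.smul_def]
  have htop : IntermediateField.adjoin K {β} = ⊤ := by
    rw [eq_top_iff, ← hα, IntermediateField.adjoin_simple_le_iff]
    have h1 : (algebraMap R L (m : R)) ∈ IntermediateField.adjoin K {β} := by
      rw [IsScalarTower.algebraMap_apply R K L]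
      exact IntermediateField.algebraMap_mem _ _
    have h2 := IntermediateField.div_mem _ (IntermediateField.mem_adjoin_simple_self K β) h1
    rwa [hβdef, mul_div_cancel_left₀ _ hm0] at h2
  haveI : IsDomain R := inferInstance
  let g := minpoly R β
  have hmap : g.map (algebraMap R K) = minpoly K β := (minpoly.isIntegrallyClosed_eq_field_fractions' K hm).symm
  refine ⟨g, minpoly.monic hm, hmap ▸ minpoly.irreducible (Algebra.IsIntegral.isIntegral β),
    hmap ▸ Algebra.IsSeparable.isSeparable K β, ?_⟩
  haveI : FaithfulSMul R L := (faithfulSMul_iff_algebraMap_injective R L).2 hinjR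
  let ψ : AdjoinRoot g →ₐ[R] L := (Subalgebra.val _).comp (minpoly.equivAdjoin hm).toAlgHom
  refine ⟨ψ.restrictScalars k, ?_, fun z => ?_⟩
  · exact Subtype.val_injective.comp (minpoly.equivAdjoin hm).injective
  · have hz : z ∈ Algebra.adjoin K {β} := by
      rw [← IntermediateField.adjoin_simple_toSubalgebra_of_isAlgebraic (Algebra.IsAlgebraic.isAlgebraic β), htop]
      trivial
    rw [Algebra.adjoin_singleton_eq_range_aeval] at hz
    obtain ⟨p, hp⟩ := hz
    obtain ⟨b, hb⟩ := IsLocalization.integerNormalization_map_to_map (nonZeroDivisors R) p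
    let q := IsLocalization.integerNormalization (nonZeroDivisors R) p
    have hroot : ∀ r : Polynomial R, ψ (AdjoinRoot.mk g r) = aeval β r := by
      intro r
      have hr : ψ (AdjoinRoot.root g) = β := by
        show ((minpoly.equivAdjoin hm (AdjoinRoot.root (minpoly R β))) : L) = β
        simp [minpoly.equivAdjoin, β]
      rw [← AdjoinRoot.aeval_eq, ← aeval_algHom_apply, hr]
    refine ⟨AdjoinRoot.mk g q, AdjoinRoot.mk g (C (b : R)), ?_⟩
    rw [show (ψ.restrictScalars k) (AdjoinRoot.mk g q) = ψ (AdjoinRoot.mk g q) from rfl,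
      show (ψ.restrictScalars k) (AdjoinRoot.mk g (C (b : R))) = ψ (AdjoinRoot.mk g (C (b : R))) from rfl,
      hroot, hroot, aeval_C]
    have hb0 : algebraMap R L (b : R) ≠ 0 := fun h0 =>
      nonZeroDivisors.coe_ne_zero b (hinjR (h0.trans (map_zero _).symm))
    rw [eq_div_iff hb0, ← hp, ← aeval_map_algebraMap K β q, hb]
    simp only [AlgHom.toRingHom_eq_coe, RingHom.coe_coe, map_smul, Algebra.smul_def, map_mul]
    rw [mul_comm]
    simp [← IsScalarTower.algebraMap_apply R K L]

end BiratOpenLib
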